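import Groth.Agent.EtIntegralBC.Main
import Groth.Agent.EtPushStalk.Counit
import Mathlib

/-!
Integral morphisms: the counit `f⁻¹ f_* F ⟶ F` is an epimorphism; base change for all sheaves.
-/

set_option autoImplicit false
set_option linter.style.haveILetI false
universe u

open CategoryTheory CategoryTheory.Limits AlgebraicGeometry Opposite
open Groth.Agent.EtIntegral (Lifts stalkPushLift stalkPushLift_germ exists_amalg_disjoint exists_piece)
open Groth.Agent.EtPushStalk (up)

set_option backward.isDefEq.respectTransparency false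
set_option backward.isDefEq.respectTransparency.types false

namespace Groth.Agent.EtIntegralBC

variable {X Y : Scheme.{u}} (f : X ⟶ Y) [IsIntegralHom f]

/-- every germ on the source is the value of a germ of the direct image -/
theorem surjective_stalkPushLift {Ω : Type u} [Field Ω] [IsSepClosed Ω] (η : Spec (CommRingCat.of Ω) ⟶ Y)
    (F : EtCoh.Ab X) (ξ : Lifts f η) : Function.Surjective (stalkPushLift f η F ξ) := by
  intro a
  obtain ⟨U, w₀, s, rfl⟩ := (Scheme.pointSmallEtale ξ.1).toPresheafFiber_jointly_surjective (P := F.obj) a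
  let w : Over.mk ξ.1 ⟶ (Scheme.Etale.forget X).obj U := w₀
  let u₀ : U.left := w.left (default : Spec (CommRingCat.of Ω))
  haveI := U.prop
  obtain ⟨V, p, hp, O, h, hOc, hh, ⟨c₀, hc₀⟩, -⟩ := exists_piece f U.hom u₀
  haveI := hp
  let pf : pullback f p ⟶ X := pullback.fst f p
  haveI : Etale pf := MorphismProperty.pullback_fst _ _ hp
  haveI : Etale h := by
    haveI : Etale (h ≫ U.hom) := by rw [hh]; infer_instance
    exact Etale.of_comp h U.hom
  -- the geometric point of the piece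
  obtain ⟨l, -⟩ := Scheme.pointSmallEtaleFiberObjToPreimage_surjective (S := U.left) w.left
    (s₀ := u₀) rfl (Scheme.Etale.mk h) ⟨c₀, hc₀⟩
  let c : Spec (CommRingCat.of Ω) ⟶ O.toScheme := (l : Over.mk w.left ⟶ Over.mk h).left
  have hc : c ≫ h = w.left := Over.w (l : Over.mk w.left ⟶ Over.mk h)
  have hcX : c ≫ O.ι ≫ pullback.fst f p = ξ.1 := by
    rw [← hh, ← Category.assoc, hc]
    exact Over.w w
  let v₀ : Spec (CommRingCat.of Ω) ⟶ V := c ≫ O.ι ≫ pullback.snd f p
  have hv₀ : v₀ ≫ p = η := by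
    show (c ≫ O.ι ≫ pullback.snd f p) ≫ p = η
    rw [Category.assoc, Category.assoc, ← pullback.condition, ← Category.assoc O.ι, ← Category.assoc c, hcX]
    exact ξ.2
  let V' : Y.Etale := Scheme.Etale.mk p
  let v : Over.mk η ⟶ (Scheme.Etale.forget Y).obj V' := Over.homMk v₀ hv₀
  let P : X.Etale := (EtCoh.bc f).obj V'
  let σ : P.left ⟶ pullback f p := pullback.lift (pullback.snd p f) (pullback.fst p f) pullback.condition.symm
  let O₁ : P.left.Opens := σ ⁻¹ᵁ O
  let O₂ : P.left.Opens := ⟨(O₁ : Set P.left)ᶜ, (hOc.preimage σ.continuous).isOpen_compl⟩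
  haveI := P.prop
  let Z : ULift.{u} Bool → X.Etale := fun b => Scheme.Etale.mk ((if b.down then O₁ else O₂).ι ≫ P.hom)
  let π : ∀ b, Z b ⟶ P := fun b => MorphismProperty.Over.homMk (if b.down then O₁ else O₂).ι rfl
  haveI : ∀ b, Mono (π b).left := fun b => inferInstanceAs (Mono (if b.down then O₁ else O₂).ι)
  let b₁ : ULift.{u} Bool := ⟨true⟩
  let g₁ : Z b₁ ⟶ U := MorphismProperty.Over.homMk ((σ ∣_ O) ≫ h) (by
    show ((σ ∣_ O) ≫ h) ≫ U.hom = O₁.ι ≫ P.hom
    rw [Category.assoc, hh, morphismRestrict_ι_assoc, pullback.lift_fst]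
    rfl)
  let t₀ : ∀ b : ULift.{u} Bool, EtCoh.sect F (Z b) := fun b =>
    match b with
    | ⟨true⟩ => F.obj.map g₁.op s
    | ⟨false⟩ => 0
  obtain ⟨t, ht⟩ := exists_amalg_disjoint F Z π
    (fun i j hij c d hcd => by
      rcases i with ⟨_ | _⟩ <;> rcases j with ⟨_ | _⟩
      · exact hij rfl
      · have h1 : (c : O₂.toScheme).1 = (d : O₁.toScheme).1 := hcd
        exact (c : O₂.toScheme).2 (h1.symm ▸ (d : O₁.toScheme).2)
      · have h1 : (c : O₁.toScheme).1 = (d : O₂.toScheme).1 := hcd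
        exact (d : O₂.toScheme).2 (h1 ▸ (c : O₁.toScheme).2)
      · exact hij rfl)
    (fun z => by
      by_cases hz : z ∈ O₁
      · exact ⟨⟨true⟩, (⟨z, hz⟩ : O₁), rfl⟩
      · exact ⟨⟨false⟩, (⟨z, hz⟩ : O₂), rfl⟩) t₀
  refine ⟨(Scheme.pointSmallEtale η).toPresheafFiber V' v ((EtCoh.push f).obj F).obj t, ?_⟩
  rw [stalkPushLift_germ]
  let u := up f ξ.1 (Over.homMk v.left ((Over.w v).trans ξ.2.symm) :
    Over.mk (ξ.1 ≫ f) ⟶ (Scheme.Etale.forget Y).obj V')
  let ul : Spec (CommRingCat.of Ω) ⟶ P.left := u.left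
  have hul : ul ≫ σ = c ≫ O.ι := by
    change pullback.lift v₀ ξ.1 _ ≫ σ = _
    apply pullback.hom_ext
    · rw [Category.assoc, pullback.lift_fst, Category.assoc, hcX]; exact pullback.lift_snd _ _ _
    · rw [Category.assoc, pullback.lift_snd, Category.assoc]; exact pullback.lift_fst _ _ _
  have hmem : ul (default : Spec (CommRingCat.of Ω)) ∈ O₁ := by
    show (ul ≫ σ) default ∈ O
    rw [hul]
    exact (c default).2
  have hr : Set.range ul ⊆ Set.range O₁.ι := by
    rintro _ ⟨z, rfl⟩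
    rw [Scheme.Opens.range_ι, Subsingleton.elim (α := Spec (CommRingCat.of Ω)) z default]
    exact hmem
  let u' : Over.mk ξ.1 ⟶ (Scheme.Etale.forget X).obj (Z b₁) :=
    Over.homMk (IsOpenImmersion.lift O₁.ι ul hr) (by
      change IsOpenImmersion.lift O₁.ι ul hr ≫ O₁.ι ≫ P.hom = ξ.1
      rw [IsOpenImmersion.lift_fac_assoc]; exact Over.w u)
  have hu' : (Scheme.pointSmallEtale ξ.1).fiber.map (π b₁) u' = u :=
    Over.OverMorphism.ext (IsOpenImmersion.lift_fac _ _ _)
  have hg : (Scheme.pointSmallEtale ξ.1).fiber.map g₁ u' = w := by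
    refine Over.OverMorphism.ext ?_
    change IsOpenImmersion.lift O₁.ι ul hr ≫ (σ ∣_ O) ≫ h = w.left
    have : IsOpenImmersion.lift O₁.ι ul hr ≫ (σ ∣_ O) = c := by
      rw [← cancel_mono O.ι, Category.assoc, morphismRestrict_ι, IsOpenImmersion.lift_fac_assoc, hul]
    rw [← Category.assoc, this, hc]
  change (Scheme.pointSmallEtale ξ.1).toPresheafFiber P u F.obj t = _
  rw [← hu', ← GrothendieckTopology.Point.toPresheafFiber_w_apply, ht b₁,
    GrothendieckTopology.Point.toPresheafFiber_w_apply, hg]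

/-- the counit is an epimorphism -/
theorem epi_counit (F : EtCoh.Ab X) : Epi ((EtCoh.pullPushAdj f).counit.app F) := by
  rw [Groth.Agent.EtStalk.epi_iff]
  intro Ω _ _ ξ a
  obtain ⟨z, hz⟩ := surjective_stalkPushLift f (ξ ≫ f) F ⟨ξ, rfl⟩ a
  refine ⟨(Groth.Agent.EtStalk.stalkPullIso f ξ).hom.app ((EtCoh.push f).obj F) z, ?_⟩
  refine (ConcreteCategory.congr_hom (Groth.Agent.EtPushStalk.stalkPullIso_hom_counit f ξ F) z).trans ?_
  refine Eq.trans ?_ hz
  simp [stalkPushLift]

section BC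

variable {P Y P' Y' : Scheme.{u}} (h : P ⟶ Y) (g : Y' ⟶ Y) (h' : P' ⟶ Y') (g' : P' ⟶ P)
  (w : g' ≫ h = h' ≫ g)

theorem baseChange0_natural {F G : EtCoh.Ab P} (a : F ⟶ G) :
    (EtCoh.pull g).map ((EtCoh.push h).map a) ≫ EtCoh.baseChange0 h g h' g' w G =
      EtCoh.baseChange0 h g h' g' w F ≫ (EtCoh.push h').map ((EtCoh.pull g').map a) := by
  apply ((EtCoh.pullPushAdj g).homEquiv _ _).injective
  rw [Adjunction.homEquiv_naturality_left, Adjunction.homEquiv_naturality_right, EtCoh.baseChange0,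
    EtCoh.baseChange0, Equiv.apply_symm_apply, Equiv.apply_symm_apply, ← Functor.map_comp_assoc]
  erw [(EtCoh.pullPushAdj g').unit.naturality a]
  rw [Functor.map_comp]
  simp only [Category.assoc, Functor.comp_map]
  refine congrArg (_ ≫ ·) ?_
  have n1 := ((EtCoh.pushComp h g').hom ≫ (EtCoh.pushCongr w).hom ≫ (EtCoh.pushComp g h').inv).naturality
    ((EtCoh.pull g').map a)
  simp only [Category.assoc, Functor.comp_map, NatTrans.comp_app] at n1
  exact n1

end BC

section Gen

universe v₁ v₂ u₁ u₂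

variable {A : Type u₁} [Category.{v₁} A] [Abelian A] {B : Type u₂} [Category.{v₂} B] [Abelian B]
  (L R : A ⥤ B) [L.Additive] [R.Additive] [PreservesFiniteColimits L] [PreservesFiniteColimits R]
  (b : ∀ H : A, L.obj H ⟶ R.obj H) (nat : ∀ {G H : A} (a : G ⟶ H), L.map a ≫ b H = b G ≫ R.map a)

include nat in
omit [L.Additive] [R.Additive] [PreservesFiniteColimits L] in
theorem epi_of_presentation {G H : A} (ε : G ⟶ H) [Epi ε] [Epi (b G)] : Epi (b H) := by
  haveI : Epi (R.map ε) := inferInstance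
  haveI : Epi (b G ≫ R.map ε) := epi_comp _ _
  exact epi_of_epi_fac (nat ε)

include nat in
theorem isIso_of_presentation {G H : A} (ε : G ⟶ H) [Epi ε] [IsIso (b G)] [Epi (b (kernel ε))] :
    IsIso (b H) := by
  haveI := epi_of_presentation L R b (fun a => nat a) ε
  let S : ShortComplex A := ShortComplex.mk (kernel.ι ε) ε (kernel.condition ε)
  have hS : S.Exact := ShortComplex.exact_of_f_is_kernel _ (kernelIsKernel ε)
  haveI : Epi S.g := ‹Epi ε›
  have hR := hS.map_of_epi_of_preservesCokernel R inferInstance inferInstance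
  haveI : Epi (S.map R).g := inferInstanceAs (Epi (R.map ε))
  haveI : Epi (L.map ε) := inferInstance
  have hK : R.map (kernel.ι ε) ≫ inv (b G) ≫ L.map ε = 0 := by
    rw [← cancel_epi (b (kernel ε)), ← Category.assoc, ← nat (kernel.ι ε), Category.assoc, IsIso.hom_inv_id_assoc,
      ← Functor.map_comp, kernel.condition, Functor.map_zero, comp_zero]
  let d := hR.desc (inv (b G) ≫ L.map ε) hK
  have hd : R.map ε ≫ d = inv (b G) ≫ L.map ε := hR.g_desc _ hK
  haveI : IsSplitMono (b H) := ⟨⟨⟨d, by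
    rw [← cancel_epi (L.map ε), ← Category.assoc, nat ε, Category.assoc, hd, IsIso.hom_inv_id_assoc,
      Category.comp_id]⟩⟩⟩
  exact isIso_of_mono_of_epi (b H)

end Gen

variable {X' Y' : Scheme.{u}} {g : Y' ⟶ Y} {f' : X' ⟶ Y'} {g' : X' ⟶ X}

variable {f} in
theorem isIso_baseChange0 (sq : IsPullback g' f' f g) (F : EtCoh.Ab X) :
    IsIso (EtCoh.baseChange0 f g f' g' sq.w F) := by
  haveI : IsIntegralHom f' := MorphismProperty.of_isPullback sq ‹_›
  haveI := Groth.Agent.EtIntegral.push_preservesFiniteColimits f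
  haveI := Groth.Agent.EtIntegral.push_preservesFiniteColimits f'
  let L := EtCoh.push f ⋙ EtCoh.pull g
  let R := EtCoh.pull g' ⋙ EtCoh.push f'
  haveI : PreservesFiniteColimits L := comp_preservesFiniteColimits _ _
  haveI : PreservesFiniteColimits R := comp_preservesFiniteColimits _ _
  let b : ∀ H, L.obj H ⟶ R.obj H := EtCoh.baseChange0 f g f' g' sq.w
  have nat : ∀ {G H : EtCoh.Ab X} (a : G ⟶ H), L.map a ≫ b H = b G ≫ R.map a :=
    fun a => baseChange0_natural f g f' g' sq.w a
  have hiso : ∀ H, IsIso (b ((EtCoh.pull f).obj ((EtCoh.push f).obj H))) :=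
    fun H => isIso_baseChange0_pull sq ((EtCoh.push f).obj H)
  haveI : ∀ H : EtCoh.Ab X, Epi (b H) := fun H =>
    haveI := epi_counit f H
    haveI : IsIso (b ((EtCoh.push f ⋙ EtCoh.pull f).obj H)) := hiso H
    epi_of_presentation L R b (fun a => nat a) ((EtCoh.pullPushAdj f).counit.app H)
  haveI := epi_counit f F
  haveI : IsIso (b ((EtCoh.push f ⋙ EtCoh.pull f).obj F)) := hiso F
  exact isIso_of_presentation L R b (fun a => nat a) ((EtCoh.pullPushAdj f).counit.app F)

end Groth.Agent.EtIntegralBC
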