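import Groth.Agent.EtIntegral.StalkFinite
import Groth.Agent.EtIntegral.Conditions
import Mathlib

/-!
Integral morphisms: geometric points of fibres, germs of direct images detected on lifts.
-/

set_option autoImplicit false
set_option linter.style.haveILetI false
universe u

open CategoryTheory CategoryTheory.Limits AlgebraicGeometry Opposite
open Groth.Agent.EtIntegral (Lifts stalkPushLift stalkPushLift_germ)

set_option backward.isDefEq.respectTransparency false
set_option backward.isDefEq.respectTransparency.types false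

namespace Groth.Agent.EtIntegralBC

variable {X Y : Scheme.{u}} (f : X ⟶ Y) [IsIntegralHom f] {Ω : Type u} [Field Ω] [IsAlgClosed Ω]
  (η : Spec (CommRingCat.of Ω) ⟶ Y)

/-- every point of an integral scheme over an algebraically closed field is rational -/
theorem exists_point_integral {Q : Scheme.{u}} (q : Q ⟶ Spec (CommRingCat.of Ω)) [IsIntegralHom q] (p : Q) :
    ∃ s : Spec (CommRingCat.of Ω) ⟶ Q, s ≫ q = 𝟙 _ ∧ s (default : Spec (CommRingCat.of Ω)) = p := by
  obtain ⟨φ, hφ⟩ := Spec.map_surjective (Q.fromSpecResidueField p ≫ q)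
  haveI : IsAffine Q := isAffine_of_isAffineHom q
  have hcl : IsClosedImmersion (Q.fromSpecResidueField p) := by
    refine isClosed_singleton_iff_isClosedImmersion.mp (isClosed_of_closure_subset fun x hx => ?_)
    exact (Groth.Agent.EtIntegral.eq_of_specializes q (specializes_iff_mem_closure.mpr hx)
      (Subsingleton.elim (α := Spec (CommRingCat.of Ω)) _ _)).symm
  haveI : IsIntegralHom (Spec.map φ) := by rw [hφ]; infer_instance
  have hint : φ.hom.IsIntegral := (IsIntegralHom.SpecMap_iff).1 ‹_›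
  letI : Algebra Ω (Q.residueField p) := φ.hom.toAlgebra
  haveI : Algebra.IsIntegral Ω (Q.residueField p) := ⟨hint⟩
  haveI : IsIso φ := (ConcreteCategory.isIso_iff_bijective φ).2
    (IsAlgClosed.algebraMap_bijective_of_isIntegral (k := Ω) (K := Q.residueField p))
  refine ⟨Spec.map (inv φ) ≫ Q.fromSpecResidueField p, ?_, Q.fromSpecResidueField_apply p _⟩
  rw [Category.assoc, ← hφ, ← Spec.map_comp, IsIso.hom_inv_id, Spec.map_id]

theorem exists_lift_integral (x : X) (hx : f x = η (default : Spec (CommRingCat.of Ω))) :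
    ∃ ξ : Lifts f η, ξ.1 (default : Spec (CommRingCat.of Ω)) = x := by
  obtain ⟨p, hp, -⟩ := Scheme.Pullback.exists_preimage_pullback (f := f) (g := η) x default hx
  haveI : IsIntegralHom (pullback.snd f η) := MorphismProperty.pullback_snd _ _ ‹_›
  obtain ⟨s, hs, hsp⟩ := exists_point_integral (pullback.snd f η) p
  refine ⟨⟨s ≫ pullback.fst f η, ?_⟩, ?_⟩
  · rw [Category.assoc, pullback.condition, ← Category.assoc, hs, Category.id_comp]
  · rw [Scheme.Hom.comp_apply, hsp, hp]

/-- germs of direct images vanishing on all lifts vanish -/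
theorem eq_zero_of_lifts (G : EtCoh.Ab X) (z : (EtCoh.stalk η).obj ((EtCoh.push f).obj G))
    (h : ∀ ξ, stalkPushLift f η G ξ z = 0) : z = 0 := by
  obtain ⟨V, v₀, t, rfl⟩ := (Scheme.pointSmallEtale η).toPresheafFiber_jointly_surjective
    (P := ((EtCoh.push f).obj G).obj) z
  let v : Over.mk η ⟶ (Scheme.Etale.forget Y).obj V := v₀
  let P : X.Etale := (EtCoh.bc f).obj V
  let fV : P.left ⟶ V.left := pullback.fst V.hom f
  haveI : IsIntegralHom fV := MorphismProperty.pullback_fst _ _ ‹_›
  have hfib : ∀ c : P.left, fV c = v.left (default : Spec (CommRingCat.of Ω)) → c ∉ EtShriek.sectSupp G P t := by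
    intro c hc
    obtain ⟨ζ, hζ⟩ := exists_lift_integral fV v.left c hc
    have hζ' : (ζ.1 ≫ pullback.snd V.hom f) ≫ f = η := by
      rw [Category.assoc, ← pullback.condition, ← Category.assoc]
      exact (congrArg (· ≫ V.hom) ζ.2).trans (Over.w v)
    have hz := h ⟨_, hζ'⟩
    rw [stalkPushLift_germ] at hz
    obtain ⟨T, g, y, hy, ht⟩ := (GrothendieckTopology.Point.toPresheafFiber_eq_iff' (P := G.obj) _ _ _ t 0).mp
      (hz.trans (map_zero _).symm)
    rw [map_zero] at ht
    refine (Groth.Agent.EtSect.mem_iff G t c).mpr ⟨T, g, ?_, ht⟩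
    let y' : Over.mk (ζ.1 ≫ pullback.snd V.hom f) ⟶ (Scheme.Etale.forget X).obj T := y
    let yl : Spec (CommRingCat.of Ω) ⟶ T.left := y'.left
    refine ⟨yl default, ?_⟩
    have hy' : y'.left ≫ g.left = pullback.lift v.left (ζ.1 ≫ pullback.snd V.hom f)
        ((Over.w v).trans hζ'.symm) := congrArg CommaMorphism.left hy
    rw [← hζ]
    show (yl ≫ g.left) (default : Spec (CommRingCat.of Ω)) = ζ.1 (default : Spec (CommRingCat.of Ω))
    rw [show yl ≫ g.left = _ from hy']
    have e : (pullback.lift v.left (ζ.1 ≫ pullback.snd V.hom f) ((Over.w v).trans hζ'.symm) :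
        Spec (CommRingCat.of Ω) ⟶ pullback V.hom f) = ζ.1 := by
      apply pullback.hom_ext
      · rw [pullback.lift_fst]; exact ζ.2.symm
      · rw [pullback.lift_snd]
    exact congr($e (default : Spec (CommRingCat.of Ω)))
  have hC : IsClosed (fV '' EtShriek.sectSupp G P t) :=
    fV.isClosedMap _ (Groth.Agent.EtSect.isClosed_sectSupp G t)
  let O : V.left.Opens := ⟨(fV '' EtShriek.sectSupp G P t)ᶜ, hC.isOpen_compl⟩
  have := V.prop
  let V' : Y.Etale := Scheme.Etale.mk (O.ι ≫ V.hom)
  let a : V' ⟶ V := MorphismProperty.Over.homMk O.ι rfl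
  have hr : Set.range v.left ⊆ Set.range O.ι := by
    rintro _ ⟨c, rfl⟩
    rw [Scheme.Opens.range_ι, Subsingleton.elim (α := Spec (CommRingCat.of Ω)) c default]
    rintro ⟨c', hc', he⟩
    exact hfib c' he hc'
  let v' : Over.mk η ⟶ (Scheme.Etale.forget Y).obj V' := Over.homMk (IsOpenImmersion.lift O.ι v.left hr) (by
    change IsOpenImmersion.lift O.ι v.left hr ≫ O.ι ≫ V.hom = η
    rw [IsOpenImmersion.lift_fac_assoc]; exact Over.w v)
  have hzero : G.obj.map ((EtCoh.bc f).map a).op t = 0 := by
    refine (Groth.Agent.EtSect.map_eq_zero_iff G t _).mpr ?_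
    rintro _ ⟨c, rfl⟩ hc
    let m : pullback (O.ι ≫ V.hom) f ⟶ pullback V.hom f := ((EtCoh.bc f).map a).left
    let c' : (pullback (O.ι ≫ V.hom) f : Scheme.{u}) := c
    let o : O.toScheme := pullback.fst (O.ι ≫ V.hom) f c'
    exact o.2 ⟨m c', hc, congr($((EtCoh.isPullback_bc_map f a).w) c')⟩
  refine ((GrothendieckTopology.Point.toPresheafFiber_eq_iff' _ _ _ t 0).mpr ⟨V', a, v', ?_, ?_⟩).trans
    (map_zero _)
  · exact Over.OverMorphism.ext (IsOpenImmersion.lift_fac _ _ _)
  · rw [map_zero]; exact hzero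

end Groth.Agent.EtIntegralBC
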