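import Groth.Agent.EtIntegralBC.Realise
import Mathlib

/-!
Base change for direct images along integral morphisms of inverse images.
-/

set_option autoImplicit false
set_option linter.style.haveILetI false
universe u

open CategoryTheory CategoryTheory.Limits AlgebraicGeometry Opposite
open Groth.Agent.EtIntegral (Lifts stalkPushLift stalkPushLift_germ stalkPullIso_germ bcSwap bcSwap_fst baseChange0_unit)

set_option backward.isDefEq.respectTransparency false
set_option backward.isDefEq.respectTransparency.types false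

namespace Groth.Agent.EtIntegralBC

variable {P Y P' Y' : Scheme.{u}} {h : P ⟶ Y} {g : Y' ⟶ Y} {h' : P' ⟶ Y'} {g' : P' ⟶ P}
  [IsIntegralHom h] [IsIntegralHom h'] (sq : IsPullback g' h' h g) (F : EtCoh.Ab Y)

set_option maxHeartbeats 800000 in
theorem isIso_baseChange0_pull :
    IsIso (EtCoh.baseChange0 h g h' g' sq.w ((EtCoh.pull h).obj F)) := by
  refine Groth.Agent.EtIntegral.isIso_of_algClosed _ fun Ω _ _ _ ζ => ?_
  let G := (EtCoh.pull h).obj F
  let bcm := (EtCoh.stalk ζ).map (EtCoh.baseChange0 h g h' g' sq.w G)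
  let e := (Groth.Agent.EtStalk.stalkPullIso g ζ).hom.app ((EtCoh.push h).obj G)
  have he : Function.Bijective e := (ConcreteCategory.isIso_iff_bijective _).mp inferInstance
  let dn : Lifts h' ζ → Lifts h (ζ ≫ g) := fun ξ' => ⟨ξ'.1 ≫ g', by
    rw [Category.assoc, sq.w, ← Category.assoc, ξ'.2]⟩
  have key : ∀ (ξ' : Lifts h' ζ) z, stalkPushLift h' ζ ((EtCoh.pull g').obj G) ξ' (bcm (e z)) =
      (Groth.Agent.EtStalk.stalkPullIso g' ξ'.1).hom.app G (stalkPushLift h (ζ ≫ g) G (dn ξ') z) := by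
    intro ξ' z
    obtain ⟨V, v, t, rfl⟩ := (Scheme.pointSmallEtale (ζ ≫ g)).toPresheafFiber_jointly_surjective
      (P := ((EtCoh.push h).obj G).obj) z
    rw [stalkPushLift_germ, stalkPullIso_germ, stalkPullIso_germ]
    refine (congrArg (stalkPushLift h' ζ ((EtCoh.pull g').obj G) ξ')
      (GrothendieckTopology.Point.toPresheafFiber_naturality_apply (Scheme.pointSmallEtale ζ)
        (EtCoh.baseChange0 h g h' g' sq.w G).hom _ _ _)).trans ?_
    rw [baseChange0_unit, stalkPushLift_germ]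
    refine (GrothendieckTopology.Point.toPresheafFiber_w_apply (Scheme.pointSmallEtale ξ'.1)
      (bcSwap h g h' g' sq.w V) _ ((EtCoh.pull g').obj G).obj _).trans ?_
    congr 3
    refine Over.OverMorphism.ext ?_
    let V' : Y'.Etale := (EtCoh.bc g).obj V
    let vl : Spec (CommRingCat.of Ω) ⟶ V.left := (v : Over.mk (ζ ≫ g) ⟶ (Scheme.Etale.forget Y).obj V).left
    have hvl : vl ≫ V.hom = ζ ≫ g := Over.w (v : Over.mk (ζ ≫ g) ⟶ (Scheme.Etale.forget Y).obj V)
    have h1 : ξ'.1 ≫ h' = ζ := ξ'.2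
    change pullback.lift (pullback.lift vl ζ hvl) ξ'.1 ((pullback.lift_snd _ _ _).trans h1.symm) ≫ (bcSwap h g h' g' sq.w V).left =
      pullback.lift (pullback.lift vl (ξ'.1 ≫ g') (hvl.trans (dn ξ').2.symm)) ξ'.1 (pullback.lift_snd _ _ _)
    have hsnd : (bcSwap h g h' g' sq.w V).left ≫ pullback.snd (pullback.snd V.hom h) g' =
        pullback.snd (pullback.snd V.hom g) h' := MorphismProperty.Over.w (bcSwap h g h' g' sq.w V)
    apply pullback.hom_ext
    · apply pullback.hom_ext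
      · simp only [Category.assoc]
        erw [bcSwap_fst h g h' g' sq.w V]
        erw [pullback.lift_fst_assoc, pullback.lift_fst_assoc, pullback.lift_fst, pullback.lift_fst]
      · simp only [Category.assoc]
        erw [pullback.condition (f := pullback.snd V.hom h) (g := g'), reassoc_of% hsnd, pullback.lift_snd_assoc,
          pullback.lift_snd_assoc]
    · erw [Category.assoc, hsnd, pullback.lift_snd, pullback.lift_snd]
  constructor
  · intro z₁ z₂ hz
    obtain ⟨y₁, rfl⟩ := he.2 z₁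
    obtain ⟨y₂, rfl⟩ := he.2 z₂
    refine congrArg e ?_
    rw [← sub_eq_zero]
    refine eq_zero_of_lifts h (ζ ≫ g) G _ fun ξ => ?_
    rw [map_sub, sub_eq_zero]
    let ξ' : Lifts h' ζ := ⟨sq.lift ξ.1 ζ ξ.2, sq.lift_snd _ _ _⟩
    have hξ : down sq ζ ξ' = ξ := Subtype.ext (sq.lift_fst _ _ _)
    rw [← hξ]
    apply ((Groth.Agent.EtStalk.stalkPullIso g' ξ'.1).app G).addCommGroupIsoToAddEquiv.injective
    exact (key ξ' y₁).symm.trans ((congrArg _ hz).trans (key ξ' y₂))
  · intro z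
    let φ : Lifts h (ζ ≫ g) → ((EtCoh.stalk (ζ ≫ g)).obj F : AddCommGrpCat.{u + 1}) := fun ξ =>
      fn' sq F ζ z ⟨sq.lift ξ.1 ζ ξ.2, sq.lift_snd _ _ _⟩
    obtain ⟨y, hy⟩ := exists_realise h F (ζ ≫ g) φ (fun ξ => by
      let ξ' : Lifts h' ζ := ⟨sq.lift ξ.1 ζ ξ.2, sq.lift_snd _ _ _⟩
      obtain ⟨O, hO, hmem, hOφ⟩ := isLC_fn' sq F ζ z ξ'
      let k : (pullback h' ζ : Scheme.{u}) ≅ pullback h (ζ ≫ g) :=
        ((IsPullback.of_hasPullback h' ζ).flip.paste_vert sq.flip).flip.isoPullback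
      have hpt : ∀ η' : Lifts h (ζ ≫ g),
          k.inv (pt h (ζ ≫ g) η') = pt h' ζ ⟨sq.lift η'.1 ζ η'.2, sq.lift_snd _ _ _⟩ := by
        intro η'
        unfold pt
        rw [← Scheme.Hom.comp_apply]
        refine congrArg (fun m : Spec (CommRingCat.of Ω) ⟶ pullback h' ζ => m default) ?_
        rw [Iso.comp_inv_eq]
        apply pullback.hom_ext
        · simp [k]
        · simp [k]
      refine ⟨k.inv ⁻¹' O, hO.preimage k.inv.continuous, ?_, fun η' hη' => hOφ _ ?_⟩
      · show k.inv (pt h (ζ ≫ g) ξ) ∈ O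
        rw [hpt]; exact hmem
      · rw [← hpt]; exact hη')
    refine ⟨e y, ?_⟩
    rw [← sub_eq_zero]
    refine eq_zero_of_lifts h' ζ _ _ fun ξ' => ?_
    rw [map_sub, sub_eq_zero]
    refine (key ξ' y).trans ?_
    have hξ : (⟨sq.lift (down sq ζ ξ').1 ζ (down sq ζ ξ').2, sq.lift_snd _ _ _⟩ : Lifts h' ζ) = ξ' :=
      Subtype.ext (sq.hom_ext (sq.lift_fst _ _ _) ((sq.lift_snd _ _ _).trans ξ'.2.symm))
    have h1 : val h F (ζ ≫ g) (down sq ζ ξ') (stalkPushLift h (ζ ≫ g) G (down sq ζ ξ') y) = fn' sq F ζ z ξ' :=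
      (congrFun hy (down sq ζ ξ')).trans (congrArg (fn' sq F ζ z) hξ)
    have h2 := (val_bijective h F (ζ ≫ g) (down sq ζ ξ')).1 h1
    refine (congrArg ((Groth.Agent.EtStalk.stalkPullIso g' ξ'.1).hom.app G) h2).trans ?_
    exact ((Groth.Agent.EtStalk.stalkPullIso g' ξ'.1).app G).addCommGroupIsoToAddEquiv.apply_symm_apply _

end Groth.Agent.EtIntegralBC
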