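import Groth.Agent.EtIntegralBC.Values
import Mathlib

/-!
Locally constant functions on the lifts of a geometric point are values of germs.
-/

set_option autoImplicit false
set_option linter.style.haveILetI false
universe u

open CategoryTheory CategoryTheory.Limits AlgebraicGeometry Opposite TensorProduct
open Groth.Agent.EtIntegral (Lifts stalkPushLift stalkPushLift_germ exists_amalg_disjoint exists_sect_pointed)
open Groth.Agent.EtPushStalk (up)

set_option backward.isDefEq.respectTransparency false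
set_option backward.isDefEq.respectTransparency.types false

namespace Groth.Agent.EtIntegralBC

section Algebra

variable {R A : Type u} [CommRing R] [CommRing A] [Algebra R A] [Algebra.IsIntegral R A]
  {Ω : Type u} [Field Ω] [IsAlgClosed Ω] [Algebra R Ω]

/-- evaluation at a point -/
noncomputable abbrev ev (x : A →ₐ[R] Ω) : Ω ⊗[R] A →ₐ[R] Ω :=
  Algebra.TensorProduct.lift (AlgHom.id R Ω) x fun _ _ => .all _ _

/-- locally constant functions depend on finitely many elements -/
theorem exists_finite_det {T : Type*} (φ : (A →ₐ[R] Ω) → T)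
    (hlc : ∀ x, ∃ e : Ω ⊗[R] A, ev x e ≠ 0 ∧ ∀ y, ev y e ≠ 0 → φ y = φ x) :
    ∃ s : Finset A, ∀ x y : A →ₐ[R] Ω, (∀ a ∈ s, x a = y a) → φ x = φ y := by
  classical
  choose e he hφ using hlc
  have htop : Ideal.span (Set.range e) = ⊤ := by
    by_contra hne
    obtain ⟨M, hM, hle⟩ := Ideal.exists_le_maximal _ hne
    haveI := hM
    letI : Field (Ω ⊗[R] A ⧸ M) := Ideal.Quotient.field M
    haveI : Algebra.IsIntegral Ω (Ω ⊗[R] A) := Algebra.IsIntegral.tensorProduct R Ω A
    haveI : Algebra.IsIntegral Ω (Ω ⊗[R] A ⧸ M) :=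
      Algebra.IsIntegral.of_surjective (Ideal.Quotient.mkₐ Ω M) Ideal.Quotient.mk_surjective
    let κ : Ω ≃+* (Ω ⊗[R] A ⧸ M) :=
      RingEquiv.ofBijective (algebraMap Ω _) (IsAlgClosed.algebraMap_bijective_of_isIntegral (k := Ω))
    let x : A →ₐ[R] Ω :=
      { toRingHom := (κ.symm.toRingHom.comp (Ideal.Quotient.mk M)).comp
          (Algebra.TensorProduct.includeRight : A →ₐ[R] Ω ⊗[R] A).toRingHom
        commutes' := fun r => by
          apply κ.injective
          show κ (κ.symm (Ideal.Quotient.mk M _)) = _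
          rw [κ.apply_symm_apply]
          exact congrArg (Ideal.Quotient.mk M) ((Algebra.TensorProduct.includeRight :
            A →ₐ[R] Ω ⊗[R] A).commutes r) }
    have hx : ∀ z, κ (ev x z) = Ideal.Quotient.mk M z := by
      intro z
      induction z using TensorProduct.induction_on with
      | zero => simp
      | tmul c a =>
        rw [Algebra.TensorProduct.lift_tmul, map_mul]
        have h1 : c ⊗ₜ[R] a = (c ⊗ₜ[R] (1 : A)) * ((1 : Ω) ⊗ₜ[R] a) := by
          rw [Algebra.TensorProduct.tmul_mul_tmul, mul_one, one_mul]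
        rw [h1, map_mul]
        exact congrArg₂ (· * ·) rfl (κ.apply_symm_apply _)
      | add p q hp hq => simp only [map_add, hp, hq]
    refine he x (κ.injective ?_)
    rw [hx, map_zero, Ideal.Quotient.eq_zero_iff_mem]
    exact hle (Ideal.subset_span ⟨x, rfl⟩)
  obtain ⟨c, hc⟩ := Finsupp.mem_ideal_span_range_iff_exists_finsupp.1
    ((Ideal.eq_top_iff_one _).1 htop)
  have hrep : ∀ z : Ω ⊗[R] A, ∃ s : Finset A, ∀ x y : A →ₐ[R] Ω, (∀ a ∈ s, x a = y a) → ev x z = ev y z := by
    intro z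
    induction z using TensorProduct.induction_on with
    | zero => exact ⟨∅, fun x y _ => by simp⟩
    | tmul ω a =>
      refine ⟨{a}, fun x y h => ?_⟩
      rw [Algebra.TensorProduct.lift_tmul, Algebra.TensorProduct.lift_tmul, h a (Finset.mem_singleton_self a)]
    | add p q hp hq =>
      obtain ⟨s, hs⟩ := hp
      obtain ⟨t, ht⟩ := hq
      refine ⟨s ∪ t, fun x y h => ?_⟩
      rw [map_add, map_add, hs x y fun a ha => h a (Finset.mem_union_left t ha),
        ht x y fun a ha => h a (Finset.mem_union_right s ha)]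
  choose S hS using hrep
  refine ⟨c.support.biUnion fun j => S (e j), fun x y h => ?_⟩
  obtain ⟨j, hj, hjx⟩ : ∃ j ∈ c.support, ev x (e j) ≠ 0 := by
    by_contra hne
    push Not at hne
    have := congrArg (ev x) hc
    simp only [Finsupp.sum, map_sum, map_mul, map_one] at this
    rw [Finset.sum_eq_zero fun j hj => by rw [hne j hj, mul_zero]] at this
    exact zero_ne_one this
  have hxy : ev x (e j) = ev y (e j) := hS _ x y fun a ha => h a (Finset.mem_biUnion.2 ⟨j, hj, ha⟩)
  exact (hφ j x hjx).trans (hφ j y (hxy ▸ hjx)).symm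

/-- separation of the finitely many restrictions after an etale neighbourhood -/
theorem exists_idem (A₁ : Subalgebra R A) [Module.Finite R A₁] (v₀ : R →ₐ[R] Ω) :
    ∃ (R' : Type u) (_ : CommRing R') (_ : Algebra R R') (_ : Algebra.Etale R R') (v : R' →ₐ[R] Ω)
      (e : (A₁ →ₐ[R] Ω) → R' ⊗[R] A), (∀ i j, i ≠ j → e i * e j = 0) ∧ Ideal.span (Set.range e) = ⊤ ∧
        ∀ (y : A →ₐ[R] Ω) i, Algebra.TensorProduct.lift v y (fun _ _ => .all _ _) (e i) ≠ 0 →
          y.comp A₁.val = i := by
  classical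
  haveI := Groth.Agent.EtIntegral.finite_algHom R A₁ Ω
  haveI := Fintype.ofFinite (A₁ →ₐ[R] Ω)
  let B := (A₁ →ₐ[R] Ω) → A₁
  obtain ⟨R', _, _, _, v, σ, hσ, hpt⟩ := exists_sect_pointed (R := R) (A := A₁) (B := B) Ω
    (fun x => x.toRingHom.comp (Pi.evalRingHom (fun _ => (A₁ : Type u)) x)) (fun x a => rfl)
  let m : R' ⊗[R] A₁ →ₐ[R] R' ⊗[R] A := Algebra.TensorProduct.map (AlgHom.id R R') A₁.val
  refine ⟨R', inferInstance, inferInstance, inferInstance, v,
    fun i => m (σ (Pi.single i 1)), fun i j hij => ?_, ?_, fun y i hy => ?_⟩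
  · rw [← map_mul, ← map_mul, show (Pi.single i 1 : B) * Pi.single j 1 = 0 from ?_, map_zero, map_zero]
    funext k
    rcases eq_or_ne k i with rfl | hk
    · simp [Pi.single_eq_of_ne hij]
    · simp [Pi.single_eq_of_ne hk]
  · rw [Ideal.eq_top_iff_one]
    have h1 : (1 : B) = ∑ i, Pi.single i 1 := (Finset.univ_sum_single (1 : B)).symm
    rw [← map_one m, ← map_one σ, h1, map_sum, map_sum]
    exact Ideal.sum_mem _ fun i _ => Ideal.subset_span ⟨i, rfl⟩
  · by_contra hne
    refine hy ?_
    have hm : ∀ z, Algebra.TensorProduct.lift v y (fun _ _ => .all _ _) (m z) =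
        Algebra.TensorProduct.lift v (y.comp A₁.val) (fun _ _ => .all _ _) z := by
      intro z
      induction z using TensorProduct.induction_on with
      | zero => simp
      | tmul r a => simp [m]
      | add p q hp hq => simp only [map_add, hp, hq]
    rw [hm, hpt]
    show (y.comp A₁.val) ((Pi.single i 1 : B) (y.comp A₁.val)) = 0
    rw [Pi.single_eq_of_ne hne, map_zero]

end Algebra

section Scheme

variable {P Y : Scheme.{u}} (h : P ⟶ Y) [IsIntegralHom h] (F : EtCoh.Ab Y)
  {Ω : Type u} [Field Ω] [IsAlgClosed Ω] (η : Spec (CommRingCat.of Ω) ⟶ Y)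

/-- finitely many germs live on one neighbourhood -/
theorem exists_common_nhd {ι : Type*} [Finite ι] (a : ι → ((EtCoh.stalk η).obj F : AddCommGrpCat.{u + 1})) :
    ∃ (V : Y.Etale) (v : Over.mk η ⟶ (Scheme.Etale.forget Y).obj V) (r : ι → EtCoh.sect F V),
      ∀ i, (Scheme.pointSmallEtale η).toPresheafFiber V v F.obj (r i) = a i := by
  classical
  haveI := Fintype.ofFinite ι
  suffices H : ∀ s : Finset ι, ∃ (V : Y.Etale) (v : Over.mk η ⟶ (Scheme.Etale.forget Y).obj V)
      (r : ι → EtCoh.sect F V), ∀ i ∈ s, (Scheme.pointSmallEtale η).toPresheafFiber V v F.obj (r i) = a i by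
    obtain ⟨V, v, r, hr⟩ := H Finset.univ
    exact ⟨V, v, r, fun i => hr i (Finset.mem_univ i)⟩
  intro s
  induction s using Finset.induction_on with
  | empty =>
    exact ⟨Scheme.Etale.mk (𝟙 Y), Over.homMk η (Category.comp_id _), fun _ => 0,
      fun i hi => absurd hi (Finset.notMem_empty i)⟩
  | insert b s hb ih =>
    obtain ⟨V, v, r, hr⟩ := ih
    obtain ⟨V', v', t, ht⟩ := (Scheme.pointSmallEtale η).toPresheafFiber_jointly_surjective (P := F.obj) (a b)
    let v'' : Over.mk η ⟶ (Scheme.Etale.forget Y).obj V' := v'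
    haveI := V.prop
    haveI := V'.prop
    let W : Y.Etale := Scheme.Etale.mk (pullback.fst V.hom V'.hom ≫ V.hom)
    let r₁ : W ⟶ V := MorphismProperty.Over.homMk (pullback.fst V.hom V'.hom) rfl
    let r₂ : W ⟶ V' := MorphismProperty.Over.homMk (pullback.snd V.hom V'.hom) pullback.condition.symm
    let w : Over.mk η ⟶ (Scheme.Etale.forget Y).obj W :=
      Over.homMk (pullback.lift v.left v''.left ((Over.w v).trans (Over.w v'').symm)) (by
        change pullback.lift _ _ _ ≫ pullback.fst V.hom V'.hom ≫ V.hom = η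
        rw [pullback.lift_fst_assoc]
        exact Over.w v)
    have hw₁ : (Scheme.pointSmallEtale η).fiber.map r₁ w = v := Over.OverMorphism.ext (pullback.lift_fst _ _ _)
    have hw₂ : (Scheme.pointSmallEtale η).fiber.map r₂ w = v' := Over.OverMorphism.ext (pullback.lift_snd _ _ _)
    refine ⟨W, w, fun i => if i = b then F.obj.map r₂.op t else F.obj.map r₁.op (r i), fun i hi => ?_⟩
    by_cases hib : i = b
    · simp only [if_pos hib]
      subst hib
      rw [GrothendieckTopology.Point.toPresheafFiber_w_apply, hw₂, ht]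
    · simp only [if_neg hib]
      rw [GrothendieckTopology.Point.toPresheafFiber_w_apply, hw₁]
      exact hr i ((Finset.mem_insert.1 hi).resolve_left hib)

set_option maxHeartbeats 800000 in
theorem exists_realise (φ : Lifts h η → ((EtCoh.stalk η).obj F : AddCommGrpCat.{u + 1}))
    (hφ : IsLC h η φ) : ∃ z, fn h F η z = φ := by
  classical
  obtain ⟨U, hU, hyU, -⟩ := exists_isAffineOpen_mem_and_subset (X := Y)
    (x := η (default : Spec (CommRingCat.of Ω))) (U := ⊤) trivial
  have hA : IsAffineOpen (h ⁻¹ᵁ U) := hU.preimage h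
  let R := Γ(Y, U)
  let A := Γ(P, h ⁻¹ᵁ U)
  let ψ : R ⟶ A := h.app U
  have hψ : Spec.map ψ ≫ hU.fromSpec = hA.fromSpec ≫ h := by
    rw [← IsAffineOpen.SpecMap_appLE_fromSpec h hU hA le_rfl]
    simp [ψ, Scheme.Hom.appLE]
  obtain ⟨θ, hθ⟩ := Spec.map_surjective (IsOpenImmersion.lift hU.fromSpec η (by
    rintro _ ⟨z, rfl⟩
    rw [hU.range_fromSpec, Subsingleton.elim (α := Spec (CommRingCat.of Ω)) z default]
    exact hyU))
  have hθ' : Spec.map θ ≫ hU.fromSpec = η := by rw [hθ, IsOpenImmersion.lift_fac]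
  algebraize [ψ.hom]
  letI : Algebra R Ω := θ.hom.toAlgebra
  haveI : Algebra.IsIntegral R A := ⟨IsIntegralHom.isIntegral_app h U hU⟩
  -- lifts are points of the algebra
  let mkL : (A →ₐ[R] Ω) → Lifts h η := fun x => ⟨Spec.map (CommRingCat.ofHom x.toRingHom) ≫ hA.fromSpec, by
    rw [Category.assoc, ← hψ, ← Category.assoc, ← Spec.map_comp,
      show ψ ≫ CommRingCat.ofHom x.toRingHom = θ from CommRingCat.hom_ext (RingHom.ext x.commutes), hθ']⟩
  have hmkL : ∀ ξ : Lifts h η, ∃ x, mkL x = ξ := by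
    intro ξ
    obtain ⟨x₀, hx₀⟩ := Spec.map_surjective (IsOpenImmersion.lift hA.fromSpec ξ.1 (by
      rintro _ ⟨z, rfl⟩
      rw [hA.range_fromSpec, Subsingleton.elim (α := Spec (CommRingCat.of Ω)) z default]
      show h (ξ.1 default) ∈ U
      rw [← Scheme.Hom.comp_apply, ξ.2]; exact hyU))
    have hcomm : ψ ≫ x₀ = θ := by
      apply Spec.map_injective
      rw [← cancel_mono hU.fromSpec, Spec.map_comp, Category.assoc, hψ, hx₀, hθ', IsOpenImmersion.lift_fac_assoc]
      exact ξ.2
    refine ⟨{ toRingHom := x₀.hom, commutes' := fun r => congr($hcomm r) }, Subtype.ext ?_⟩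
    show Spec.map x₀ ≫ hA.fromSpec = ξ.1
    rw [hx₀, IsOpenImmersion.lift_fac]
  -- the fibre is the spectrum of the tensor product
  have h1 : IsPullback (Spec.map (CommRingCat.ofHom Algebra.TensorProduct.includeLeftRingHom) :
        Spec (CommRingCat.of (Ω ⊗[R] A)) ⟶ Spec (CommRingCat.of Ω))
      (Spec.map (CommRingCat.ofHom Algebra.TensorProduct.includeRight.toRingHom) :
        Spec (CommRingCat.of (Ω ⊗[R] A)) ⟶ Spec A)
      (Spec.map (CommRingCat.ofHom (algebraMap R Ω))) (Spec.map ψ) :=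
    isPullback_SpecMap_of_isPushout _ _ _ _ (CommRingCat.isPushout_tensorProduct R Ω A)
  have h2 : IsPullback (Spec.map ψ) hA.fromSpec hU.fromSpec h := by
    refine IsOpenImmersion.isPullback (Spec.map ψ) hA.fromSpec hU.fromSpec h hψ.symm ?_
    rw [hU.opensRange_fromSpec, hA.opensRange_fromSpec]
  have h3 : IsPullback (Spec.map (CommRingCat.ofHom Algebra.TensorProduct.includeRight.toRingHom) ≫ hA.fromSpec)
      (Spec.map (CommRingCat.ofHom Algebra.TensorProduct.includeLeftRingHom) :
        Spec (CommRingCat.of (Ω ⊗[R] A)) ⟶ Spec (CommRingCat.of Ω)) h η :=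
    (h1.paste_vert h2).flip.of_iso (Iso.refl _) (Iso.refl _) (Iso.refl _) (Iso.refl _) (by simp) (by simp)
      (by simp) (by
        simp only [Iso.refl_hom, Category.id_comp, Category.comp_id]
        exact hθ')
  let k := h3.isoPullback
  have hk : ∀ x : A →ₐ[R] Ω, pt h η (mkL x) = k.hom ((Spec.map (CommRingCat.ofHom (ev x).toRingHom)) default) := by
    intro x
    rw [← Scheme.Hom.comp_apply]
    refine congrArg (fun m : Spec (CommRingCat.of Ω) ⟶ pullback h η => m default) ?_
    apply pullback.hom_ext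
    · rw [pullback.lift_fst, Category.assoc, h3.isoPullback_hom_fst, ← Category.assoc, ← Spec.map_comp]
      show Spec.map (CommRingCat.ofHom x.toRingHom) ≫ hA.fromSpec = _
      congr 2
      ext a
      exact ((Algebra.TensorProduct.lift_tmul (AlgHom.id R Ω) x (fun _ _ => .all _ _) (1 : Ω) a).trans (one_mul _)).symm
    · rw [pullback.lift_snd, Category.assoc, h3.isoPullback_hom_snd, ← Spec.map_comp, ← Spec.map_id]
      congr 1
      ext c
      exact ((Algebra.TensorProduct.lift_tmul (AlgHom.id R Ω) x (fun _ _ => .all _ _) c (1 : A)).trans (by rw [map_one, mul_one]; rfl)).symm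
  -- finite determination
  obtain ⟨s, hs⟩ := exists_finite_det (fun x => φ (mkL x)) (fun x => by
    obtain ⟨O, hO, hxO, hOφ⟩ := hφ (mkL x)
    let z : PrimeSpectrum (Ω ⊗[R] A) := (Spec.map (CommRingCat.ofHom (ev x).toRingHom)) default
    have hO' : IsOpen (k.hom ⁻¹' O) := hO.preimage k.hom.continuous
    obtain ⟨_, ⟨e, rfl⟩, hze, heO⟩ :=
      PrimeSpectrum.isTopologicalBasis_basic_opens.exists_subset_of_mem_open (a := z)
        (show z ∈ k.hom ⁻¹' O by show k.hom _ ∈ O; rw [← hk]; exact hxO) hO'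
    refine ⟨e, fun h0 => hze ?_, fun y hy => hOφ _ ?_⟩
    · show e ∈ Ideal.comap (ev x).toRingHom _
      rw [Ideal.mem_comap]
      show ev x e ∈ _
      rw [h0]; exact zero_mem _
    · rw [hk]
      refine heO fun hmem => hy ?_
      let d : PrimeSpectrum Ω := (default : Spec (CommRingCat.of Ω))
      have hd : d.asIdeal = ⊥ := (Ideal.eq_bot_or_top d.asIdeal).resolve_right d.isPrime.ne_top
      have : ev y e ∈ d.asIdeal := hmem
      rwa [hd, Ideal.mem_bot] at this)
  let A₁ : Subalgebra R A := Algebra.adjoin R (s : Set A)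
  haveI : Algebra.FiniteType R A₁ := (Subalgebra.fg_iff_finiteType A₁).mp ⟨s, rfl⟩
  haveI : Algebra.IsIntegral R A₁ := ⟨fun x =>
    (isIntegral_algHom_iff A₁.val Subtype.val_injective).mp (Algebra.IsIntegral.isIntegral (x : A))⟩
  haveI : Module.Finite R A₁ := Algebra.IsIntegral.finite
  have hdet : ∀ x y : A →ₐ[R] Ω, x.comp A₁.val = y.comp A₁.val → φ (mkL x) = φ (mkL y) := fun x y hxy =>
    hs x y fun a ha => AlgHom.congr_fun hxy ⟨a, Algebra.subset_adjoin ha⟩
  haveI := Groth.Agent.EtIntegral.finite_algHom R A₁ Ω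
  let val₁ : (A₁ →ₐ[R] Ω) → ((EtCoh.stalk η).obj F : AddCommGrpCat.{u + 1}) := fun i =>
    if hi : ∃ x : A →ₐ[R] Ω, x.comp A₁.val = i then φ (mkL hi.choose) else 0
  have hval₁ : ∀ x : A →ₐ[R] Ω, val₁ (x.comp A₁.val) = φ (mkL x) := fun x => by
    have hi : ∃ y : A →ₐ[R] Ω, y.comp A₁.val = x.comp A₁.val := ⟨x, rfl⟩
    simp only [val₁, dif_pos hi]
    exact hdet _ _ hi.choose_spec
  obtain ⟨R', _, _, _, v, e, hee, hetop, hev⟩ := exists_idem (R := R) (A := A) (Ω := Ω) A₁ (Algebra.ofId R Ω)
  obtain ⟨Vc, vc, r, hr⟩ := exists_common_nhd F η val₁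
  -- the neighbourhood
  let p₀ : Spec (CommRingCat.of R') ⟶ Y := Spec.map (CommRingCat.ofHom (algebraMap R R')) ≫ hU.fromSpec
  haveI : Etale p₀ := by
    have : Etale (Spec.map (CommRingCat.ofHom (algebraMap R R'))) :=
      (HasRingHomProperty.Spec_iff (P := @AlgebraicGeometry.Etale)).mpr (RingHom.etale_algebraMap.mpr ‹_›)
    infer_instance
  let vs : Spec (CommRingCat.of Ω) ⟶ Spec (CommRingCat.of R') := Spec.map (CommRingCat.ofHom v.toRingHom)
  have hvs : vs ≫ p₀ = η := by
    rw [← Category.assoc, ← Spec.map_comp]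
    refine Eq.trans ?_ hθ'
    congr 2
    ext r
    exact v.commutes r
  haveI := Vc.prop
  let V : Y.Etale := Scheme.Etale.mk (pullback.fst p₀ Vc.hom ≫ p₀)
  let π₂ : V ⟶ Vc := MorphismProperty.Over.homMk (pullback.snd p₀ Vc.hom) pullback.condition.symm
  let vV : Over.mk η ⟶ (Scheme.Etale.forget Y).obj V :=
    Over.homMk (pullback.lift vs vc.left (hvs.trans (Over.w vc).symm)) (by
      change pullback.lift _ _ _ ≫ pullback.fst p₀ Vc.hom ≫ p₀ = η
      rw [pullback.lift_fst_assoc, hvs])
  let PV : P.Etale := (EtCoh.bc h).obj V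
  haveI := PV.prop
  -- to the spectrum
  have g1 : IsPullback (Spec.map (CommRingCat.ofHom Algebra.TensorProduct.includeLeftRingHom) :
        Spec (CommRingCat.of (R' ⊗[R] A)) ⟶ Spec (CommRingCat.of R'))
      (Spec.map (CommRingCat.ofHom Algebra.TensorProduct.includeRight.toRingHom) :
        Spec (CommRingCat.of (R' ⊗[R] A)) ⟶ Spec A)
      (Spec.map (CommRingCat.ofHom (algebraMap R R'))) (Spec.map ψ) :=
    isPullback_SpecMap_of_isPushout _ _ _ _ (CommRingCat.isPushout_tensorProduct R R' A)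
  have g3 := g1.paste_vert h2
  let μ : PV.left ⟶ Spec (CommRingCat.of (R' ⊗[R] A)) :=
    g3.lift (pullback.fst V.hom h ≫ pullback.fst p₀ Vc.hom) (pullback.snd V.hom h) (by
      rw [Category.assoc]
      exact pullback.condition (f := V.hom) (g := h))
  let O : (A₁ →ₐ[R] Ω) → PV.left.Opens := fun i => μ ⁻¹ᵁ PrimeSpectrum.basicOpen (e i)
  let Z : (A₁ →ₐ[R] Ω) → P.Etale := fun i => Scheme.Etale.mk ((O i).ι ≫ PV.hom)
  let π : ∀ i, Z i ⟶ PV := fun i => MorphismProperty.Over.homMk (O i).ι rfl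
  haveI : ∀ i, Mono (π i).left := fun i => inferInstanceAs (Mono (O i).ι)
  let σ : (A₁ →ₐ[R] Ω) → EtCoh.sect ((EtCoh.pull h).obj F) PV := fun i =>
    ((EtCoh.pullPushAdj h).unit.app F).hom.app (op V) (F.obj.map π₂.op (r i))
  obtain ⟨t, ht⟩ := exists_amalg_disjoint ((EtCoh.pull h).obj F) Z π
    (fun i j hij c d hcd => by
      let c' : (O i).toScheme := c
      let d' : (O j).toScheme := d
      have h1 : c'.1 = d'.1 := hcd
      have hc : μ c'.1 ∈ PrimeSpectrum.basicOpen (e i) := c'.2
      have hd : μ c'.1 ∈ PrimeSpectrum.basicOpen (e j) := h1 ▸ d'.2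
      have hmem : μ c'.1 ∈ PrimeSpectrum.basicOpen (e i * e j) := by
        rw [PrimeSpectrum.basicOpen_mul]; exact ⟨hc, hd⟩
      rw [hee i j hij] at hmem
      exact hmem (zero_mem _))
    (fun c => by
      let q : PrimeSpectrum (R' ⊗[R] A) := μ c
      obtain ⟨i, hi⟩ : ∃ i, e i ∉ q.asIdeal := by
        by_contra hne
        push Not at hne
        refine q.isPrime.ne_top (top_le_iff.1 (hetop ▸ Ideal.span_le.2 ?_))
        rintro _ ⟨i, rfl⟩
        exact hne i
      exact ⟨i, (⟨c, hi⟩ : O i), rfl⟩)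
    (fun i => ((EtCoh.pull h).obj F).obj.map (π i).op (σ i))
  refine ⟨(Scheme.pointSmallEtale η).toPresheafFiber V vV ((EtCoh.push h).obj ((EtCoh.pull h).obj F)).obj t,
    funext fun ξ => ?_⟩
  obtain ⟨x, rfl⟩ := hmkL ξ
  let u := up h (mkL x).1 (Over.homMk vV.left ((Over.w vV).trans (mkL x).2.symm) :
    Over.mk ((mkL x).1 ≫ h) ⟶ (Scheme.Etale.forget Y).obj V)
  let l : R' ⊗[R] A →ₐ[R] Ω := Algebra.TensorProduct.lift v x fun _ _ => .all _ _
  let ul : Spec (CommRingCat.of Ω) ⟶ PV.left := u.left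
  have huμ : ul ≫ μ = Spec.map (CommRingCat.ofHom l.toRingHom) := by
    refine g3.hom_ext ?_ ?_
    · rw [Category.assoc, g3.lift_fst, ← Spec.map_comp]
      change pullback.lift vV.left (mkL x).1 _ ≫ pullback.fst V.hom h ≫ pullback.fst p₀ Vc.hom = _
      rw [pullback.lift_fst_assoc]
      refine (pullback.lift_fst _ _ _).trans ?_
      show Spec.map (CommRingCat.ofHom v.toRingHom) = _
      congr 1
      ext a
      exact ((Algebra.TensorProduct.lift_tmul v x (fun _ _ => .all _ _) a (1 : A)).trans (by rw [map_one, mul_one]; rfl)).symm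
    · rw [Category.assoc, g3.lift_snd, ← Category.assoc, ← Spec.map_comp]
      change pullback.lift vV.left (mkL x).1 _ ≫ pullback.snd V.hom h = _
      rw [pullback.lift_snd]
      show Spec.map (CommRingCat.ofHom x.toRingHom) ≫ hA.fromSpec = _
      congr 2
      ext a
      exact ((Algebra.TensorProduct.lift_tmul v x (fun _ _ => .all _ _) (1 : R') a).trans (by rw [map_one, one_mul]; rfl)).symm
  obtain ⟨i, hi⟩ : ∃ i, l (e i) ≠ 0 := by
    by_contra hne
    push Not at hne
    have h1 : (1 : R' ⊗[R] A) ∈ RingHom.ker l := by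
      refine (hetop.symm.le.trans (Ideal.span_le.2 ?_)) (Submodule.mem_top (R := R' ⊗[R] A))
      rintro _ ⟨i, rfl⟩
      exact hne i
    rw [RingHom.mem_ker, map_one] at h1
    exact one_ne_zero h1
  have hmemO : ul (default : Spec (CommRingCat.of Ω)) ∈ O i := by
    show (ul ≫ μ) default ∈ PrimeSpectrum.basicOpen (e i)
    rw [huμ]
    intro hmem
    let d : PrimeSpectrum Ω := (default : Spec (CommRingCat.of Ω))
    have hd : d.asIdeal = ⊥ := (Ideal.eq_bot_or_top d.asIdeal).resolve_right d.isPrime.ne_top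
    have : l (e i) ∈ d.asIdeal := hmem
    rw [hd, Ideal.mem_bot] at this
    exact hi this
  let u' : Over.mk (mkL x).1 ⟶ (Scheme.Etale.forget P).obj (Z i) :=
    Over.homMk (IsOpenImmersion.lift (O i).ι ul (by
      rintro _ ⟨c, rfl⟩
      erw [Scheme.Opens.range_ι]
      rw [Subsingleton.elim (α := Spec (CommRingCat.of Ω)) c default]
      exact hmemO)) (by
        change IsOpenImmersion.lift (O i).ι ul _ ≫ (O i).ι ≫ PV.hom = (mkL x).1
        rw [IsOpenImmersion.lift_fac_assoc]; exact Over.w u)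
  have hu' : (Scheme.pointSmallEtale (mkL x).1).fiber.map (π i) u' = u :=
    Over.OverMorphism.ext (IsOpenImmersion.lift_fac _ _ _)
  rw [fn, stalkPushLift_germ]
  change val h F η (mkL x) ((Scheme.pointSmallEtale (mkL x).1).toPresheafFiber PV u ((EtCoh.pull h).obj F).obj t) = _
  rw [← hu', ← GrothendieckTopology.Point.toPresheafFiber_w_apply, ht,
    GrothendieckTopology.Point.toPresheafFiber_w_apply, hu', val_germ h F η (mkL x) V vV,
    GrothendieckTopology.Point.toPresheafFiber_w_apply,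
    show (Scheme.pointSmallEtale η).fiber.map π₂ vV = vc from Over.OverMorphism.ext (pullback.lift_snd _ _ _),
    hr, ← hev x i hi]
  exact hval₁ x

end Scheme

end Groth.Agent.EtIntegralBC
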