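import Groth.Agent.EtIntegralBC.Lifts
import Groth.Agent.EtIntegral.BaseChange
import Mathlib

/-!
Values on geometric lifts of germs of direct images of inverse images: local constancy.
-/

set_option autoImplicit false
set_option linter.style.haveILetI false
universe u

open CategoryTheory CategoryTheory.Limits AlgebraicGeometry Opposite
open Groth.Agent.EtIntegral (Lifts stalkPushLift stalkPushLift_germ stalkPullIso_germ)
open Groth.Agent.EtStalk (stalkPullIso)
open Groth.Agent.EtPushStalk (up)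

set_option backward.isDefEq.respectTransparency false
set_option backward.isDefEq.respectTransparency.types false

namespace Groth.Agent.EtIntegralBC

section Agree

variable {T V S : Scheme.{u}} (p : V ⟶ S) [Etale p] (m₁ m₂ : T ⟶ V) (e : m₁ ≫ p = m₂ ≫ p)

include e in
/-- the locus where two maps into an etale scheme agree is open -/
theorem exists_agree (Ω : Type u) [Field Ω] :
    ∃ O : T.Opens, ∀ z : Spec (CommRingCat.of Ω) ⟶ T,
      z (default : Spec (CommRingCat.of Ω)) ∈ O ↔ z ≫ m₁ = z ≫ m₂ := by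
  let l : T ⟶ pullback.diagonalObj p := pullback.lift m₁ m₂ e
  let j : pullback (pullback.diagonal p) l ⟶ T := pullback.snd _ _
  haveI : IsOpenImmersion j := inferInstance
  refine ⟨j.opensRange, fun z => ⟨fun hz => ?_, fun hz => ?_⟩⟩
  · let z' := IsOpenImmersion.lift j z (by
      rintro _ ⟨c, rfl⟩
      rw [Subsingleton.elim (α := Spec (CommRingCat.of Ω)) c default]
      exact hz)
    have hz' : z' ≫ j = z := IsOpenImmersion.lift_fac _ _ _
    have h1 : j ≫ m₁ = pullback.fst (pullback.diagonal p) l := by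
      have := congrArg (· ≫ pullback.fst p p) (pullback.condition (f := pullback.diagonal p) (g := l))
      simpa [l, j] using this.symm
    have h2 : j ≫ m₂ = pullback.fst (pullback.diagonal p) l := by
      have := congrArg (· ≫ pullback.snd p p) (pullback.condition (f := pullback.diagonal p) (g := l))
      simpa [l, j] using this.symm
    rw [← hz', Category.assoc, Category.assoc, h1, h2]
  · let z' : Spec (CommRingCat.of Ω) ⟶ pullback (pullback.diagonal p) l :=
      pullback.lift (z ≫ m₁) z (by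
        apply pullback.hom_ext <;> simp [l, hz])
    exact ⟨z' default, by rw [← Scheme.Hom.comp_apply, pullback.lift_snd]⟩

end Agree

variable {Ω : Type u} [Field Ω] [IsSepClosed Ω]

section Tr

variable {S : Scheme.{u}} (F : EtCoh.Ab S)

/-- transport of stalks along equal geometric points -/
noncomputable def tr {a b : Spec (CommRingCat.of Ω) ⟶ S} (e : a = b) :
    (EtCoh.stalk a).obj F ⟶ (EtCoh.stalk b).obj F := eqToHom (by rw [e])

theorem tr_germ {a b : Spec (CommRingCat.of Ω) ⟶ S} (e : a = b) (V : S.Etale)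
    (v : Over.mk a ⟶ (Scheme.Etale.forget S).obj V) (t : EtCoh.sect F V) :
    tr F e ((Scheme.pointSmallEtale a).toPresheafFiber V v F.obj t) =
      (Scheme.pointSmallEtale b).toPresheafFiber V (Over.homMk v.left ((Over.w v).trans e)) F.obj t := by
  subst e
  rfl

theorem tr_bijective {a b : Spec (CommRingCat.of Ω) ⟶ S} (e : a = b) : Function.Bijective (tr F e) :=
  (ConcreteCategory.isIso_iff_bijective _).mp (inferInstanceAs (IsIso (eqToHom _)))

end Tr

section Val

variable {P Y : Scheme.{u}} (h : P ⟶ Y) (F : EtCoh.Ab Y) (η : Spec (CommRingCat.of Ω) ⟶ Y)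

/-- the stalk of an inverse image at a lift, read at the geometric point below -/
noncomputable def val (ξ : Lifts h η) :
    (EtCoh.stalk ξ.1).obj ((EtCoh.pull h).obj F) ⟶ (EtCoh.stalk η).obj F :=
  (stalkPullIso h ξ.1).inv.app F ≫ tr F ξ.2

theorem val_bijective (ξ : Lifts h η) : Function.Bijective (val h F η ξ) :=
  (tr_bijective F ξ.2).comp ((stalkPullIso h ξ.1).app F).addCommGroupIsoToAddEquiv.symm.bijective

theorem val_germ (ξ : Lifts h η) (V : Y.Etale) (v : Over.mk η ⟶ (Scheme.Etale.forget Y).obj V)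
    (t : EtCoh.sect F V) :
    val h F η ξ ((Scheme.pointSmallEtale ξ.1).toPresheafFiber ((EtCoh.bc h).obj V)
      (up h ξ.1 (Over.homMk v.left ((Over.w v).trans ξ.2.symm))) ((EtCoh.pull h).obj F).obj
        (((EtCoh.pullPushAdj h).unit.app F).hom.app (op V) t)) =
      (Scheme.pointSmallEtale η).toPresheafFiber V v F.obj t := by
  rw [← stalkPullIso_germ h ξ.1 F V _ t]
  change tr F ξ.2 ((stalkPullIso h ξ.1).inv.app F ((stalkPullIso h ξ.1).hom.app F _)) = _
  refine (congrArg (tr F ξ.2) (((stalkPullIso h ξ.1).app F).addCommGroupIsoToAddEquiv.symm_apply_apply _)).trans ?_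
  rw [tr_germ]
  rfl

/-- the function of values of a germ of the direct image -/
noncomputable def fn (z : (EtCoh.stalk η).obj ((EtCoh.push h).obj ((EtCoh.pull h).obj F))) (ξ : Lifts h η) :
    ((EtCoh.stalk η).obj F : AddCommGrpCat.{u + 1}) :=
  val h F η ξ (stalkPushLift h η _ ξ z)

/-- the point of the fibre given by a lift -/
noncomputable def pt (ξ : Lifts h η) : (pullback h η : Scheme.{u}) :=
  (pullback.lift ξ.1 (𝟙 _) (ξ.2.trans (Category.id_comp η).symm) : Spec (CommRingCat.of Ω) ⟶ pullback h η)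
    (default : Spec (CommRingCat.of Ω))

/-- locally constant functions on the lifts -/
def IsLC {T : Type*} (φ : Lifts h η → T) : Prop :=
  ∀ ξ, ∃ O : Set (pullback h η : Scheme.{u}), IsOpen O ∧ pt h η ξ ∈ O ∧
    ∀ ξ', pt h η ξ' ∈ O → φ ξ' = φ ξ

end Val

section BC

variable {P Y P' Y' : Scheme.{u}} {h : P ⟶ Y} {g : Y' ⟶ Y} {h' : P' ⟶ Y'} {g' : P' ⟶ P}
  (sq : IsPullback g' h' h g) (F : EtCoh.Ab Y) (ζ : Spec (CommRingCat.of Ω) ⟶ Y')

/-- a lift of the base change below -/
noncomputable def down (ξ' : Lifts h' ζ) : Lifts h (ζ ≫ g) :=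
  ⟨ξ'.1 ≫ g', by rw [Category.assoc, sq.w, ← Category.assoc, ξ'.2]⟩

/-- the values of a germ of the base changed direct image -/
noncomputable def fn'
    (z : (EtCoh.stalk ζ).obj ((EtCoh.push h').obj ((EtCoh.pull g').obj ((EtCoh.pull h).obj F))))
    (ξ' : Lifts h' ζ) : ((EtCoh.stalk (ζ ≫ g)).obj F : AddCommGrpCat.{u + 1}) :=
  val h F (ζ ≫ g) (down sq ζ ξ')
    ((stalkPullIso g' ξ'.1).inv.app ((EtCoh.pull h).obj F) (stalkPushLift h' ζ _ ξ' z))

theorem isLC_fn' (z : (EtCoh.stalk ζ).obj ((EtCoh.push h').obj ((EtCoh.pull g').obj ((EtCoh.pull h).obj F)))) :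
    IsLC h' ζ (fn' sq F ζ z) := by
  intro ξ₀
  let G := (EtCoh.pull h).obj F
  obtain ⟨V', v', t, rfl⟩ := (Scheme.pointSmallEtale ζ).toPresheafFiber_jointly_surjective
    (P := ((EtCoh.push h').obj ((EtCoh.pull g').obj G)).obj) z
  let vv : Over.mk ζ ⟶ (Scheme.Etale.forget Y').obj V' := v'
  obtain ⟨V₀, v₀', s₀, hs₀⟩ := (Scheme.pointSmallEtale (ζ ≫ g)).toPresheafFiber_jointly_surjective
    (P := F.obj) (fn' sq F ζ ((Scheme.pointSmallEtale ζ).toPresheafFiber V' v'
      ((EtCoh.push h').obj ((EtCoh.pull g').obj G)).obj t) ξ₀)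
  let v₀ : Over.mk (ζ ≫ g) ⟶ (Scheme.Etale.forget Y).obj V₀ := v₀'
  let P₁ : P'.Etale := (EtCoh.bc h').obj V'
  let P₂ : P'.Etale := (EtCoh.bc g').obj ((EtCoh.bc h).obj V₀)
  let τ : EtCoh.sect ((EtCoh.pull g').obj G) P₂ :=
    ((EtCoh.pullPushAdj g').unit.app G).hom.app (op ((EtCoh.bc h).obj V₀))
      (((EtCoh.pullPushAdj h).unit.app F).hom.app (op V₀) s₀)
  -- the two nominees at a lift
  let u₁ : ∀ ξ : Lifts h' ζ, Over.mk ξ.1 ⟶ (Scheme.Etale.forget P').obj P₁ := fun ξ =>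
    up h' ξ.1 (Over.homMk vv.left ((Over.w vv).trans ξ.2.symm))
  let u₂ : ∀ ξ : Lifts h' ζ, Over.mk ξ.1 ⟶ (Scheme.Etale.forget P').obj P₂ := fun ξ =>
    up g' ξ.1 (up h (down sq ζ ξ).1 (Over.homMk v₀.left ((Over.w v₀).trans (down sq ζ ξ).2.symm)))
  have hA : ∀ ξ : Lifts h' ζ, val h F (ζ ≫ g) (down sq ζ ξ) ((stalkPullIso g' ξ.1).inv.app G
      ((Scheme.pointSmallEtale ξ.1).toPresheafFiber P₂ (u₂ ξ) ((EtCoh.pull g').obj G).obj τ)) =
      (Scheme.pointSmallEtale (ζ ≫ g)).toPresheafFiber V₀ v₀ F.obj s₀ := by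
    intro ξ
    rw [← val_germ h F (ζ ≫ g) (down sq ζ ξ) V₀ v₀ s₀]
    refine congrArg (val h F (ζ ≫ g) (down sq ζ ξ)) ?_
    rw [← stalkPullIso_germ g' ξ.1 G ((EtCoh.bc h).obj V₀) _ _]
    exact ((stalkPullIso g' ξ.1).app G).addCommGroupIsoToAddEquiv.symm_apply_apply _
  have h0 : (Scheme.pointSmallEtale ξ₀.1).toPresheafFiber P₁ (u₁ ξ₀) ((EtCoh.pull g').obj G).obj t =
      (Scheme.pointSmallEtale ξ₀.1).toPresheafFiber P₂ (u₂ ξ₀) ((EtCoh.pull g').obj G).obj τ := by
    refine ((val_bijective h F (ζ ≫ g) (down sq ζ ξ₀)).comp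
      ((stalkPullIso g' ξ₀.1).app G).addCommGroupIsoToAddEquiv.symm.bijective).1 ?_
    refine Eq.trans ?_ (hs₀.symm.trans (hA ξ₀).symm)
    refine congrArg (val h F (ζ ≫ g) (down sq ζ ξ₀)) (congrArg ((stalkPullIso g' ξ₀.1).inv.app G) ?_)
    exact (stalkPushLift_germ h' ζ ((EtCoh.pull g').obj G) ξ₀ V' vv t).symm
  -- a common neighbourhood
  haveI := P₁.prop
  haveI := P₂.prop
  let W₀ : P'.Etale := Scheme.Etale.mk (pullback.fst P₁.hom P₂.hom ≫ P₁.hom)
  let r₁ : W₀ ⟶ P₁ := MorphismProperty.Over.homMk (pullback.fst P₁.hom P₂.hom) rfl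
  let r₂ : W₀ ⟶ P₂ := MorphismProperty.Over.homMk (pullback.snd P₁.hom P₂.hom) pullback.condition.symm
  let w₀ : Over.mk ξ₀.1 ⟶ (Scheme.Etale.forget P').obj W₀ :=
    Over.homMk (pullback.lift (u₁ ξ₀).left (u₂ ξ₀).left ((Over.w (u₁ ξ₀)).trans (Over.w (u₂ ξ₀)).symm)) (by
      change pullback.lift _ _ _ ≫ pullback.fst P₁.hom P₂.hom ≫ P₁.hom = ξ₀.1
      rw [pullback.lift_fst_assoc]
      exact Over.w (u₁ ξ₀))
  have hw₁ : (Scheme.pointSmallEtale ξ₀.1).fiber.map r₁ w₀ = u₁ ξ₀ :=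
    Over.OverMorphism.ext (pullback.lift_fst _ _ _)
  have hw₂ : (Scheme.pointSmallEtale ξ₀.1).fiber.map r₂ w₀ = u₂ ξ₀ :=
    Over.OverMorphism.ext (pullback.lift_snd _ _ _)
  rw [← hw₁, ← hw₂, ← GrothendieckTopology.Point.toPresheafFiber_w_apply,
    ← GrothendieckTopology.Point.toPresheafFiber_w_apply] at h0
  obtain ⟨W, a, w', hw', hW⟩ := (GrothendieckTopology.Point.toPresheafFiber_eq_iff' _ _ _ _ _).mp h0
  let w : Over.mk ξ₀.1 ⟶ (Scheme.Etale.forget P').obj W := w'
  rw [← ConcreteCategory.comp_apply, ← ConcreteCategory.comp_apply, ← Functor.map_comp, ← Functor.map_comp,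
    ← op_comp, ← op_comp] at hW
  let a₁ : W ⟶ P₁ := a ≫ r₁
  let a₂ : W ⟶ P₂ := a ≫ r₂
  have hwa₁ : w.left ≫ a₁.left = (u₁ ξ₀).left := by
    refine Eq.trans ?_ (pullback.lift_fst (f := P₁.hom) (g := P₂.hom) (u₁ ξ₀).left (u₂ ξ₀).left ((Over.w (u₁ ξ₀)).trans (Over.w (u₂ ξ₀)).symm))
    refine (Category.assoc w.left a.left (pullback.fst P₁.hom P₂.hom)).symm.trans ?_
    exact congrArg (· ≫ pullback.fst P₁.hom P₂.hom) (congrArg CommaMorphism.left hw')
  have hwa₂ : w.left ≫ a₂.left = (u₂ ξ₀).left := by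
    refine Eq.trans ?_ (pullback.lift_snd (f := P₁.hom) (g := P₂.hom) (u₁ ξ₀).left (u₂ ξ₀).left ((Over.w (u₁ ξ₀)).trans (Over.w (u₂ ξ₀)).symm))
    refine (Category.assoc w.left a.left (pullback.snd P₁.hom P₂.hom)).symm.trans ?_
    exact congrArg (· ≫ pullback.snd P₁.hom P₂.hom) (congrArg CommaMorphism.left hw')
  have ha₁ : a₁.left ≫ pullback.snd V'.hom h' = W.hom := MorphismProperty.Over.w a₁
  have ha₂ : a₂.left ≫ pullback.snd (pullback.snd V₀.hom h) g' = W.hom := MorphismProperty.Over.w a₂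
  haveI := W.prop
  haveI := V'.prop
  haveI := V₀.prop
  -- the fibre of the neighbourhood
  let Wζ : Scheme.{u} := pullback (W.hom ≫ h') ζ
  let qf : Wζ ⟶ W.left := pullback.fst (W.hom ≫ h') ζ
  let qs : Wζ ⟶ Spec (CommRingCat.of Ω) := pullback.snd (W.hom ≫ h') ζ
  let m₁ : Wζ ⟶ V'.left := qf ≫ a₁.left ≫ pullback.fst V'.hom h'
  let n₁ : Wζ ⟶ V₀.left := qf ≫ a₂.left ≫ pullback.fst (pullback.snd V₀.hom h) g' ≫ pullback.fst V₀.hom h
  have hm : m₁ ≫ V'.hom = (qs ≫ vv.left) ≫ V'.hom := by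
    simp only [m₁, qf, qs, Category.assoc]
    rw [pullback.condition, reassoc_of% ha₁, pullback.condition]
    exact congrArg (qs ≫ ·) (Over.w vv).symm
  have hn : n₁ ≫ V₀.hom = (qs ≫ v₀.left) ≫ V₀.hom := by
    simp only [n₁, qf, qs, Category.assoc]
    refine Eq.trans ?_ (congrArg (qs ≫ ·) (Over.w v₀).symm)
    erw [pullback.condition (f := V₀.hom) (g := h), pullback.condition_assoc (f := pullback.snd V₀.hom h) (g := g'),
      reassoc_of% ha₂, sq.w, pullback.condition_assoc (f := W.hom ≫ h') (g := ζ)]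
    rfl
  obtain ⟨O₁, hO₁⟩ := exists_agree V'.hom m₁ (qs ≫ vv.left) hm Ω
  obtain ⟨O₂, hO₂⟩ := exists_agree V₀.hom n₁ (qs ≫ v₀.left) hn Ω
  let q : Wζ ⟶ pullback h' ζ :=
    pullback.map (W.hom ≫ h') ζ h' ζ W.hom (𝟙 _) (𝟙 _) (Category.comp_id _) (by simp)
  haveI : Etale q := by
    have hb : IsPullback qf (q ≫ pullback.snd h' ζ) (W.hom ≫ h') ζ := by
      rw [show q ≫ pullback.snd h' ζ = qs by simp [q, qs]]
      exact IsPullback.of_hasPullback _ _
    exact MorphismProperty.of_isPullback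
      (IsPullback.of_bot hb (by simp [q, qf]) (IsPullback.of_hasPullback h' ζ)) ‹Etale W.hom›
  refine ⟨q '' ((O₁ ⊓ O₂ : Wζ.Opens) : Set Wζ), q.isOpenMap _ (O₁ ⊓ O₂).isOpen, ?_, ?_⟩
  · let z₀ : Spec (CommRingCat.of Ω) ⟶ Wζ := pullback.lift w.left (𝟙 _) (by
      rw [← Category.assoc, Category.id_comp]
      exact (congrArg (· ≫ h') (Over.w w)).trans ξ₀.2)
    have hzf : z₀ ≫ qf = w.left := pullback.lift_fst _ _ _
    have hzs : z₀ ≫ qs = 𝟙 _ := pullback.lift_snd _ _ _
    refine ⟨z₀ default, ⟨(hO₁ z₀).2 ?_, (hO₂ z₀).2 ?_⟩, ?_⟩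
    · simp only [m₁, reassoc_of% hzf, reassoc_of% hzs]
      rw [reassoc_of% hwa₁]
      exact pullback.lift_fst _ _ _
    · simp only [n₁, reassoc_of% hzf, reassoc_of% hzs]
      rw [reassoc_of% hwa₂]
      erw [pullback.lift_fst_assoc, pullback.lift_fst]
      rfl
    · rw [← Scheme.Hom.comp_apply]
      refine congrArg (fun k : Spec (CommRingCat.of Ω) ⟶ pullback h' ζ => k default) ?_
      apply pullback.hom_ext
      · simp only [q, Category.assoc, pullback.map, pullback.lift_fst]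
        rw [reassoc_of% hzf]
        exact Over.w w
      · simp only [q, Category.assoc, pullback.map, pullback.lift_snd, Category.comp_id]
        exact hzs
  · rintro ξ ⟨zp, hzp, hzq⟩
    let sec : Spec (CommRingCat.of Ω) ⟶ pullback h' ζ :=
      pullback.lift ξ.1 (𝟙 _) (ξ.2.trans (Category.id_comp ζ).symm)
    obtain ⟨l, hl⟩ := Scheme.pointSmallEtaleFiberObjToPreimage_surjective (S := pullback h' ζ) sec
      (s₀ := sec default) rfl (Scheme.Etale.mk q) ⟨zp, hzq⟩
    let l' : Over.mk sec ⟶ Over.mk q := l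
    have hl1 : l'.left ≫ q = sec := Over.w l'
    have hl2 : l'.left (default : Spec (CommRingCat.of Ω)) = zp := congrArg Subtype.val hl
    let ww : Spec (CommRingCat.of Ω) ⟶ W.left := l'.left ≫ qf
    have hls : l'.left ≫ qs = 𝟙 _ := by
      have := congrArg (· ≫ pullback.snd h' ζ) hl1
      simpa [q, sec] using this
    have hwwW : ww ≫ W.hom = ξ.1 := by
      have := congrArg (· ≫ pullback.fst h' ζ) hl1
      simpa [q, sec, ww] using this
    rw [← hl2] at hzp
    have e₁ := (hO₁ l'.left).1 hzp.1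
    have e₂ := (hO₂ l'.left).1 hzp.2
    have e₁ : ww ≫ a₁.left ≫ pullback.fst V'.hom h' = vv.left :=
      (Category.assoc _ _ _).trans (e₁.trans ((Category.assoc _ _ _).symm.trans
        ((congrArg (· ≫ vv.left) hls).trans (Category.id_comp _))))
    have e₂ : ww ≫ a₂.left ≫ pullback.fst (pullback.snd V₀.hom h) g' ≫ pullback.fst V₀.hom h = v₀.left :=
      (Category.assoc _ _ _).trans (e₂.trans ((Category.assoc _ _ _).symm.trans
        ((congrArg (· ≫ v₀.left) hls).trans (Category.id_comp _))))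
    let wξ : Over.mk ξ.1 ⟶ (Scheme.Etale.forget P').obj W := Over.homMk ww hwwW
    have hx₁ : (Scheme.pointSmallEtale ξ.1).fiber.map a₁ wξ = u₁ ξ := by
      refine Over.OverMorphism.ext ?_
      change ww ≫ a₁.left = pullback.lift vv.left ξ.1 _
      apply pullback.hom_ext
      · rw [pullback.lift_fst]
        simpa [ww] using e₁
      · rw [pullback.lift_snd, Category.assoc, ha₁, hwwW]
    have hx₂ : (Scheme.pointSmallEtale ξ.1).fiber.map a₂ wξ = u₂ ξ := by
      refine Over.OverMorphism.ext ?_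
      change ww ≫ a₂.left = pullback.lift (pullback.lift v₀.left (ξ.1 ≫ g') _) ξ.1 _
      apply pullback.hom_ext
      · rw [pullback.lift_fst]
        apply pullback.hom_ext
        · rw [pullback.lift_fst]
          refine Eq.trans ?_ e₂
          simp only [Category.assoc]
          rfl
        · rw [pullback.lift_snd, Category.assoc, Category.assoc]
          erw [pullback.condition (f := pullback.snd V₀.hom h) (g := g'), reassoc_of% ha₂, reassoc_of% hwwW]
      · rw [pullback.lift_snd, Category.assoc]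
        erw [ha₂, hwwW]
    refine Eq.trans ?_ hs₀
    refine Eq.trans ?_ (hA ξ)
    refine congrArg (val h F (ζ ≫ g) (down sq ζ ξ)) (congrArg ((stalkPullIso g' ξ.1).inv.app G) ?_)
    rw [stalkPushLift_germ]
    change (Scheme.pointSmallEtale ξ.1).toPresheafFiber P₁ (u₁ ξ) ((EtCoh.pull g').obj G).obj t = _
    rw [← hx₁, ← hx₂, ← GrothendieckTopology.Point.toPresheafFiber_w_apply,
      ← GrothendieckTopology.Point.toPresheafFiber_w_apply]
    exact congrArg _ hW

end BC

end Groth.Agent.EtIntegralBC
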